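import Mathlib

set_option autoImplicit false
set_option linter.unusedSectionVars false
set_option linter.unusedVariables false
set_option linter.unusedSimpArgs false

/-!
A central product `L₁ L₂` of two groups with the centralizer properties of `SL₂(q)`: an automorphism
fixing the common centre either fixes or swaps the two factors.
-/

namespace Cfsg.Agent.Helper6.SLPair

variable {G : Type*} [Group G]

/-- the hypotheses on one factor `L` with centre `Z` -/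
structure Factor (L Z : Subgroup G) : Prop where
  le : Z ≤ L
  big : ¬ L ≤ Z
  p2 : ∀ x ∈ L, (∀ y ∈ L, x * y * x⁻¹ * y⁻¹ ∈ Z) → x ∈ Z
  p3 : ∀ K : Subgroup G, K ≤ L → (∀ y ∈ L, ∀ k ∈ K, y * k * y⁻¹ ∈ K) → ¬ K ≤ Z →
    ∀ x ∈ L, (∀ k ∈ K, x * k = k * x) → x ∈ Z

theorem mem_map_conj {L : Subgroup G} {n x : G} :
    x ∈ L.map (MulAut.conj n).toMonoidHom ↔ ∃ y ∈ L, n * y * n⁻¹ = x := by
  rw [Subgroup.mem_map]
  rfl

theorem card_map_conj (L : Subgroup G) (n : G) :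
    Nat.card (L.map (MulAut.conj n).toMonoidHom) = Nat.card L :=
  Nat.card_congr ((MulAut.conj n).subgroupMap L).symm.toEquiv

section pair

variable {L₁ L₂ : Subgroup G} (hc : ∀ x ∈ L₁, ∀ y ∈ L₂, x * y = y * x)
include hc

theorem le_normalizer_of_comm : L₂ ≤ Subgroup.normalizer (L₁ : Set G) := by
  intro y hy
  rw [Subgroup.mem_normalizer_iff]
  intro x
  constructor
  · intro hx
    have : y * x * y⁻¹ = x := by rw [← hc x hx y hy]; group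
    rw [this]; exact hx
  · intro hx
    have e := hc _ hx y hy
    have : x = y * x * y⁻¹ := by
      calc x = y⁻¹ * (y * x * y⁻¹ * y) := by group
        _ = y⁻¹ * (y * (y * x * y⁻¹)) := by rw [e]
        _ = y * x * y⁻¹ := by group
    rw [this]; exact hx

/-- the elements of the product -/
theorem mem_sup_iff {m : G} : m ∈ L₁ ⊔ L₂ ↔ ∃ x₁ ∈ L₁, ∃ x₂ ∈ L₂, m = x₁ * x₂ := by
  constructor
  · intro hm
    have hm' : m ∈ ((L₁ ⊔ L₂ : Subgroup G) : Set G) := hm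
    rw [Subgroup.coe_mul_of_right_le_normalizer_left _ _ (le_normalizer_of_comm hc), Set.mem_mul] at hm'
    obtain ⟨x₁, h1, x₂, h2, rfl⟩ := hm'
    exact ⟨x₁, h1, x₂, h2, rfl⟩
  · rintro ⟨x₁, h1, x₂, h2, rfl⟩
    exact Subgroup.mul_mem _ (Subgroup.mem_sup_left h1) (Subgroup.mem_sup_right h2)

theorem comm_inv {x y : G} (hx : x ∈ L₁) (hy : y ∈ L₂) : x * y⁻¹ = y⁻¹ * x :=
  hc x hx y⁻¹ (Subgroup.inv_mem _ hy)

theorem inv_comm {x y : G} (hx : x ∈ L₁) (hy : y ∈ L₂) : x⁻¹ * y = y * x⁻¹ :=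
  hc x⁻¹ (Subgroup.inv_mem _ hx) y hy

/-- commutators with elements of the first factor -/
theorem commutator_left {x₁ x₂ y : G} (h1 : x₁ ∈ L₁) (h2 : x₂ ∈ L₂) (hy : y ∈ L₁) :
    (x₁ * x₂) * y * (x₁ * x₂)⁻¹ * y⁻¹ = x₁ * y * x₁⁻¹ * y⁻¹ := by
  have e1 : x₂ * y = y * x₂ := (hc y hy x₂ h2).symm
  calc (x₁ * x₂) * y * (x₁ * x₂)⁻¹ * y⁻¹ = x₁ * (x₂ * y) * x₂⁻¹ * x₁⁻¹ * y⁻¹ := by group
    _ = x₁ * (y * x₂) * x₂⁻¹ * x₁⁻¹ * y⁻¹ := by rw [e1]
    _ = _ := by group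

/-- commutators with elements of the second factor -/
theorem commutator_right {x₁ x₂ y : G} (h1 : x₁ ∈ L₁) (h2 : x₂ ∈ L₂) (hy : y ∈ L₂) :
    (x₁ * x₂) * y * (x₁ * x₂)⁻¹ * y⁻¹ = x₂ * y * x₂⁻¹ * y⁻¹ := by
  have e1 : x₁ * (x₂ * y * x₂⁻¹) = (x₂ * y * x₂⁻¹) * x₁ :=
    hc x₁ h1 _ (Subgroup.mul_mem _ (Subgroup.mul_mem _ h2 hy) (Subgroup.inv_mem _ h2))
  calc (x₁ * x₂) * y * (x₁ * x₂)⁻¹ * y⁻¹ = (x₁ * (x₂ * y * x₂⁻¹)) * x₁⁻¹ * y⁻¹ := by group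
    _ = ((x₂ * y * x₂⁻¹) * x₁) * x₁⁻¹ * y⁻¹ := by rw [e1]
    _ = _ := by group

theorem cent_left {x₁ x₂ k : G} (h1 : x₁ ∈ L₁) (h2 : x₂ ∈ L₂) (hk : k ∈ L₁)
    (h : (x₁ * x₂) * k = k * (x₁ * x₂)) : x₁ * k = k * x₁ := by
  have e1 : x₂ * k = k * x₂ := (hc k hk x₂ h2).symm
  have : x₁ * k * x₂ = k * x₁ * x₂ := by
    calc x₁ * k * x₂ = x₁ * (k * x₂) := by group
      _ = x₁ * (x₂ * k) := by rw [e1]
      _ = (x₁ * x₂) * k := by group
      _ = k * (x₁ * x₂) := h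
      _ = k * x₁ * x₂ := by group
  exact mul_right_cancel this

theorem cent_right {x₁ x₂ k : G} (h1 : x₁ ∈ L₁) (h2 : x₂ ∈ L₂) (hk : k ∈ L₂)
    (h : (x₁ * x₂) * k = k * (x₁ * x₂)) : x₂ * k = k * x₂ := by
  have e1 : x₁ * k = k * x₁ := hc x₁ h1 k hk
  have : x₁ * (x₂ * k) = x₁ * (k * x₂) := by
    calc x₁ * (x₂ * k) = (x₁ * x₂) * k := by group
      _ = k * (x₁ * x₂) := h
      _ = (k * x₁) * x₂ := by group
      _ = (x₁ * k) * x₂ := by rw [e1]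
      _ = x₁ * (k * x₂) := by group
  exact mul_left_cancel this

theorem sup_normalizes_left {m x : G} (hm : m ∈ L₁ ⊔ L₂) (hx : x ∈ L₁) : m * x * m⁻¹ ∈ L₁ := by
  obtain ⟨x₁, h1, x₂, h2, rfl⟩ := (mem_sup_iff hc).1 hm
  have e1 : x₂ * x = x * x₂ := (hc x hx x₂ h2).symm
  have : (x₁ * x₂) * x * (x₁ * x₂)⁻¹ = x₁ * x * x₁⁻¹ := by
    calc (x₁ * x₂) * x * (x₁ * x₂)⁻¹ = x₁ * (x₂ * x) * x₂⁻¹ * x₁⁻¹ := by group
      _ = x₁ * (x * x₂) * x₂⁻¹ * x₁⁻¹ := by rw [e1]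
      _ = _ := by group
  rw [this]
  exact Subgroup.mul_mem _ (Subgroup.mul_mem _ h1 hx) (Subgroup.inv_mem _ h1)

theorem sup_normalizes_right {m x : G} (hm : m ∈ L₁ ⊔ L₂) (hx : x ∈ L₂) : m * x * m⁻¹ ∈ L₂ := by
  obtain ⟨x₁, h1, x₂, h2, rfl⟩ := (mem_sup_iff hc).1 hm
  have e1 : x₁ * (x₂ * x * x₂⁻¹) = (x₂ * x * x₂⁻¹) * x₁ :=
    hc x₁ h1 _ (Subgroup.mul_mem _ (Subgroup.mul_mem _ h2 hx) (Subgroup.inv_mem _ h2))
  have : (x₁ * x₂) * x * (x₁ * x₂)⁻¹ = x₂ * x * x₂⁻¹ := by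
    calc (x₁ * x₂) * x * (x₁ * x₂)⁻¹ = (x₁ * (x₂ * x * x₂⁻¹)) * x₁⁻¹ := by group
      _ = ((x₂ * x * x₂⁻¹) * x₁) * x₁⁻¹ := by rw [e1]
      _ = _ := by group
  rw [this]
  exact Subgroup.mul_mem _ (Subgroup.mul_mem _ h2 hx) (Subgroup.inv_mem _ h2)

end pair

/-- the dichotomy: an automorphism of the central product (given by conjugation), fixing the common
centre, fixes or swaps the factors -/
theorem fix_or_swap [Finite G] {L₁ L₂ Z : Subgroup G} (h₁ : Factor L₁ Z) (h₂ : Factor L₂ Z)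
    (hc : ∀ x ∈ L₁, ∀ y ∈ L₂, x * y = y * x)
    (n : G) (hnM : ∀ m ∈ L₁ ⊔ L₂, n * m * n⁻¹ ∈ L₁ ⊔ L₂)
    (hnM' : ∀ m ∈ L₁ ⊔ L₂, n⁻¹ * m * n ∈ L₁ ⊔ L₂) (hnZ : ∀ z ∈ Z, n * z * n⁻¹ = z) :
    (L₁.map (MulAut.conj n).toMonoidHom = L₁ ∧ L₂.map (MulAut.conj n).toMonoidHom = L₂) ∨
      (L₁.map (MulAut.conj n).toMonoidHom = L₂ ∧ L₂.map (MulAut.conj n).toMonoidHom = L₁) := by
  set L₁' := L₁.map (MulAut.conj n).toMonoidHom with hL₁'
  set L₂' := L₂.map (MulAut.conj n).toMonoidHom with hL₂'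
  have hc1 : Nat.card L₁' = Nat.card L₁ := card_map_conj L₁ n
  have hc2 : Nat.card L₂' = Nat.card L₂ := card_map_conj L₂ n
  -- (b)
  have hb1 : L₁' ≤ L₁ ⊔ L₂ := by
    intro x hx
    obtain ⟨y, hy, rfl⟩ := mem_map_conj.1 hx
    exact hnM y (Subgroup.mem_sup_left hy)
  have hb2 : L₂' ≤ L₁ ⊔ L₂ := by
    intro x hx
    obtain ⟨y, hy, rfl⟩ := mem_map_conj.1 hx
    exact hnM y (Subgroup.mem_sup_right hy)
  -- (c)
  have hn1 : ∀ m ∈ L₁ ⊔ L₂, ∀ x ∈ L₁', m * x * m⁻¹ ∈ L₁' := by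
    intro m hm x hx
    obtain ⟨y, hy, rfl⟩ := mem_map_conj.1 hx
    rw [mem_map_conj]
    refine ⟨(n⁻¹ * m * n) * y * (n⁻¹ * m * n)⁻¹, sup_normalizes_left hc (hnM' m hm) hy, by group⟩
  have hn2 : ∀ m ∈ L₁ ⊔ L₂, ∀ x ∈ L₂', m * x * m⁻¹ ∈ L₂' := by
    intro m hm x hx
    obtain ⟨y, hy, rfl⟩ := mem_map_conj.1 hx
    rw [mem_map_conj]
    refine ⟨(n⁻¹ * m * n) * y * (n⁻¹ * m * n)⁻¹, sup_normalizes_right hc (hnM' m hm) hy, by group⟩
  -- (d)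
  have hd : ∀ x ∈ L₁', ∀ y ∈ L₂', x * y = y * x := by
    intro x hx y hy
    obtain ⟨x0, hx0, rfl⟩ := mem_map_conj.1 hx
    obtain ⟨y0, hy0, rfl⟩ := mem_map_conj.1 hy
    calc n * x0 * n⁻¹ * (n * y0 * n⁻¹) = n * (x0 * y0) * n⁻¹ := by group
      _ = n * (y0 * x0) * n⁻¹ := by rw [hc x0 hx0 y0 hy0]
      _ = _ := by group
  -- the images are not central
  have hbig : ∀ {L : Subgroup G}, ¬ L ≤ Z → ¬ L.map (MulAut.conj n).toMonoidHom ≤ Z := by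
    intro L hL hle
    apply hL
    intro y hy
    have h1 : n * y * n⁻¹ ∈ Z := hle (mem_map_conj.2 ⟨y, hy, rfl⟩)
    have h2 := hnZ _ h1
    have : y = n * y * n⁻¹ := by
      calc y = n⁻¹ * (n * y * n⁻¹) * n := by group
        _ = n⁻¹ * (n * (n * y * n⁻¹) * n⁻¹) * n := by rw [h2]
        _ = n * y * n⁻¹ := by group
    rw [this]; exact h1
  by_cases hA : L₁ ⊓ L₁' ≤ Z
  · by_cases hB : L₂ ⊓ L₁' ≤ Z
    · -- case C
      exfalso
      apply hbig h₁.big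
      intro x hx
      obtain ⟨x₁, hx₁, x₂, hx₂, rfl⟩ := (mem_sup_iff hc).1 (hb1 hx)
      have k1 : x₁ ∈ Z := by
        apply h₁.p2 x₁ hx₁
        intro y hy
        rw [← commutator_left hc hx₁ hx₂ hy]
        apply hA
        refine ⟨?_, ?_⟩
        · rw [commutator_left hc hx₁ hx₂ hy]
          exact Subgroup.mul_mem _ (Subgroup.mul_mem _ (Subgroup.mul_mem _ hx₁ hy)
            (Subgroup.inv_mem _ hx₁)) (Subgroup.inv_mem _ hy)
        · have : x₁ * x₂ * y * (x₁ * x₂)⁻¹ * y⁻¹ = (x₁ * x₂) * (y * (x₁ * x₂)⁻¹ * y⁻¹) := by group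
          rw [this]
          exact Subgroup.mul_mem _ hx (hn1 y (Subgroup.mem_sup_left hy) _ (Subgroup.inv_mem _ hx))
      have k2 : x₂ ∈ Z := by
        apply h₂.p2 x₂ hx₂
        intro y hy
        rw [← commutator_right hc hx₁ hx₂ hy]
        apply hB
        refine ⟨?_, ?_⟩
        · rw [commutator_right hc hx₁ hx₂ hy]
          exact Subgroup.mul_mem _ (Subgroup.mul_mem _ (Subgroup.mul_mem _ hx₂ hy)
            (Subgroup.inv_mem _ hx₂)) (Subgroup.inv_mem _ hy)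
        · have : x₁ * x₂ * y * (x₁ * x₂)⁻¹ * y⁻¹ = (x₁ * x₂) * (y * (x₁ * x₂)⁻¹ * y⁻¹) := by group
          rw [this]
          exact Subgroup.mul_mem _ hx (hn1 y (Subgroup.mem_sup_right hy) _ (Subgroup.inv_mem _ hx))
      exact Subgroup.mul_mem _ k1 k2
    · -- case B: swap
      right
      have s1 : L₂' ≤ L₁ := by
        intro y hy
        obtain ⟨y₁, hy₁, y₂, hy₂, rfl⟩ := (mem_sup_iff hc).1 (hb2 hy)
        have : y₂ ∈ Z := by
          apply h₂.p3 (L₂ ⊓ L₁') inf_le_left ?_ hB y₂ hy₂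
          · intro k hk
            exact cent_right hc hy₁ hy₂ hk.1 (hd k hk.2 _ hy).symm
          · intro z hz k hk
            exact ⟨Subgroup.mul_mem _ (Subgroup.mul_mem _ hz hk.1) (Subgroup.inv_mem _ hz),
              hn1 z (Subgroup.mem_sup_right hz) k hk.2⟩
        exact Subgroup.mul_mem _ hy₁ (h₁.le this)
      have s2 : L₁' ≤ L₂ := by
        intro x hx
        obtain ⟨x₁, hx₁, x₂, hx₂, rfl⟩ := (mem_sup_iff hc).1 (hb1 hx)
        have : x₁ ∈ Z := by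
          apply h₁.p3 L₂' s1 ?_ (hbig h₂.big) x₁ hx₁
          · intro k hk
            exact cent_left hc hx₁ hx₂ (s1 hk) (hd _ hx k hk)
          · intro z hz k hk
            exact hn2 z (Subgroup.mem_sup_left hz) k hk
        exact Subgroup.mul_mem _ (h₂.le this) hx₂
      have c1 : Nat.card L₁ ≤ Nat.card L₂ := by
        rw [← hc1]; exact Subgroup.card_le_of_le s2
      have c2 : Nat.card L₂ ≤ Nat.card L₁ := by
        rw [← hc2]; exact Subgroup.card_le_of_le s1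
      refine ⟨Subgroup.eq_of_le_of_card_ge s2 (by rw [hc1]; exact c2),
        Subgroup.eq_of_le_of_card_ge s1 (by rw [hc2]; exact c1)⟩
  · -- case A: fix
    left
    have s1 : L₂' ≤ L₂ := by
      intro y hy
      obtain ⟨y₁, hy₁, y₂, hy₂, rfl⟩ := (mem_sup_iff hc).1 (hb2 hy)
      have : y₁ ∈ Z := by
        apply h₁.p3 (L₁ ⊓ L₁') inf_le_left ?_ hA y₁ hy₁
        · intro k hk
          exact cent_left hc hy₁ hy₂ hk.1 (hd k hk.2 _ hy).symm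
        · intro z hz k hk
          exact ⟨Subgroup.mul_mem _ (Subgroup.mul_mem _ hz hk.1) (Subgroup.inv_mem _ hz),
            hn1 z (Subgroup.mem_sup_left hz) k hk.2⟩
      exact Subgroup.mul_mem _ (h₂.le this) hy₂
    have e2 : L₂' = L₂ := Subgroup.eq_of_le_of_card_ge s1 (by rw [hc2])
    have s2 : L₁' ≤ L₁ := by
      intro x hx
      obtain ⟨x₁, hx₁, x₂, hx₂, rfl⟩ := (mem_sup_iff hc).1 (hb1 hx)
      have : x₂ ∈ Z := by
        apply h₂.p2 x₂ hx₂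
        intro y hy
        have hy' : y ∈ L₂' := by rw [e2]; exact hy
        have e := cent_right hc hx₁ hx₂ hy (hd _ hx y hy')
        have : x₂ * y * x₂⁻¹ * y⁻¹ = 1 := by rw [e]; group
        rw [this]; exact Subgroup.one_mem _
      exact Subgroup.mul_mem _ hx₁ (h₁.le this)
    exact ⟨Subgroup.eq_of_le_of_card_ge s2 (by rw [hc1]), e2⟩

end Cfsg.Agent.Helper6.SLPair
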