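import Mathlib

set_option autoImplicit false
set_option linter.unusedSectionVars false
set_option linter.unusedVariables false
set_option linter.unusedSimpArgs false

/-!
Elementary facts on `SL₂(F)`, `2 ≠ 0` in `F`: elements central modulo the centre are central, and the
centralizer of the conjugacy class of a non-central element is the centre.
-/

namespace Cfsg.Agent.Helper6.SLPair

variable {F : Type*} [Field F]

local notation "SL2" => Matrix.SpecialLinearGroup (Fin 2)

/-- a matrix of determinant one -/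
def mkSL (a b c d : F) (h : a * d - b * c = 1) : SL2 F :=
  ⟨!![a, b; c, d], by rw [Matrix.det_fin_two_of]; exact h⟩

@[simp] theorem mkSL_00 (a b c d : F) (h : a * d - b * c = 1) : (mkSL a b c d h).1 0 0 = a := rfl
@[simp] theorem mkSL_01 (a b c d : F) (h : a * d - b * c = 1) : (mkSL a b c d h).1 0 1 = b := rfl
@[simp] theorem mkSL_10 (a b c d : F) (h : a * d - b * c = 1) : (mkSL a b c d h).1 1 0 = c := rfl
@[simp] theorem mkSL_11 (a b c d : F) (h : a * d - b * c = 1) : (mkSL a b c d h).1 1 1 = d := rfl

theorem sl_ext {g g' : SL2 F} (h00 : g.1 0 0 = g'.1 0 0) (h01 : g.1 0 1 = g'.1 0 1)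
    (h10 : g.1 1 0 = g'.1 1 0) (h11 : g.1 1 1 = g'.1 1 1) : g = g' := by
  apply Subtype.ext
  ext i j
  fin_cases i <;> fin_cases j <;> assumption

theorem sl_mul_apply (g g' : SL2 F) (i j : Fin 2) :
    (g * g').1 i j = g.1 i 0 * g'.1 0 j + g.1 i 1 * g'.1 1 j := by
  rw [Matrix.SpecialLinearGroup.coe_mul, Matrix.mul_apply, Fin.sum_univ_two]

theorem sl_det (g : SL2 F) : g.1 0 0 * g.1 1 1 - g.1 0 1 * g.1 1 0 = 1 := by
  have := g.2
  rwa [Matrix.det_fin_two] at this

theorem one_00 : (1 : SL2 F).1 0 0 = 1 := rfl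
theorem one_01 : (1 : SL2 F).1 0 1 = 0 := rfl
theorem one_10 : (1 : SL2 F).1 1 0 = 0 := rfl
theorem one_11 : (1 : SL2 F).1 1 1 = 1 := rfl

/-- upper unitriangular -/
def uSL (t : F) : SL2 F := mkSL 1 t 0 1 (by ring)
/-- lower unitriangular -/
def lSL (t : F) : SL2 F := mkSL 1 0 t 1 (by ring)
/-- the matrix `-1` -/
def negSL (F : Type*) [Field F] : SL2 F := mkSL (-1) 0 0 (-1) (by ring)

theorem uSL_mul (t u : F) : uSL t * uSL u = uSL (t + u) := by
  apply sl_ext <;> simp only [uSL, sl_mul_apply, mkSL_00, mkSL_01, mkSL_10, mkSL_11] <;> ring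

theorem lSL_mul (t u : F) : lSL t * lSL u = lSL (t + u) := by
  apply sl_ext <;> simp only [lSL, sl_mul_apply, mkSL_00, mkSL_01, mkSL_10, mkSL_11] <;> ring

theorem uSL_zero : uSL (0 : F) = 1 := by
  apply sl_ext <;> simp only [uSL, mkSL_00, mkSL_01, mkSL_10, mkSL_11, one_00, one_01, one_10, one_11]

theorem lSL_zero : lSL (0 : F) = 1 := by
  apply sl_ext <;> simp only [lSL, mkSL_00, mkSL_01, mkSL_10, mkSL_11, one_00, one_01, one_10, one_11]

theorem uSL_inv (t : F) : (uSL t)⁻¹ = uSL (-t) := by
  apply inv_eq_of_mul_eq_one_right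
  rw [uSL_mul, add_neg_cancel, uSL_zero]

theorem lSL_inv (t : F) : (lSL t)⁻¹ = lSL (-t) := by
  apply inv_eq_of_mul_eq_one_right
  rw [lSL_mul, add_neg_cancel, lSL_zero]

theorem negSL_sq : negSL F * negSL F = 1 := by
  apply sl_ext <;> simp only [negSL, sl_mul_apply, mkSL_00, mkSL_01, mkSL_10, mkSL_11, one_00, one_01,
    one_10, one_11] <;> ring

theorem negSL_ne_one (h2 : (2 : F) ≠ 0) : negSL F ≠ 1 := by
  intro h
  have := congrArg (fun g : SL2 F => g.1 0 0) h
  simp only [negSL, mkSL_00, one_00] at this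
  apply h2
  linear_combination -this

theorem negSL_comm (x : SL2 F) : negSL F * x = x * negSL F := by
  apply sl_ext <;> simp only [negSL, sl_mul_apply, mkSL_00, mkSL_01, mkSL_10, mkSL_11] <;> ring

/-- the centre -/
theorem central_of_comm {x : SL2 F} (h1 : x * uSL 1 = uSL 1 * x) (h2 : x * lSL 1 = lSL 1 * x) :
    x = 1 ∨ x = negSL F := by
  have e1 := congrArg (fun g : SL2 F => g.1 0 0) h1
  have e2 := congrArg (fun g : SL2 F => g.1 0 1) h1
  have e3 := congrArg (fun g : SL2 F => g.1 0 0) h2
  simp only [sl_mul_apply, uSL, lSL, mkSL_00, mkSL_01, mkSL_10, mkSL_11] at e1 e2 e3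
  have h10 : x.1 1 0 = 0 := by linear_combination -e1
  have h01 : x.1 0 1 = 0 := by linear_combination e3
  have h11 : x.1 1 1 = x.1 0 0 := by linear_combination -e2
  have hd := sl_det x
  rw [h10, h01, h11, mul_zero, sub_zero] at hd
  rcases mul_self_eq_one_iff.1 hd with h | h
  · left
    apply sl_ext <;> simp only [one_00, one_01, one_10, one_11, h10, h01, h11, h]
  · right
    apply sl_ext <;> simp only [negSL, mkSL_00, mkSL_01, mkSL_10, mkSL_11, h10, h01, h11, h]

/-- a central involution is `-1` -/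
theorem central_invol {x : SL2 F} (hc : ∀ y, x * y = y * x) (h1 : x ≠ 1) : x = negSL F := by
  rcases central_of_comm (hc _) (hc _) with h | h
  · exact absurd h h1
  · exact h

/-- elements central modulo the centre are central -/
theorem central_of_comm_mod (h2 : (2 : F) ≠ 0) {x : SL2 F}
    (h : ∀ y, x * y * x⁻¹ * y⁻¹ = 1 ∨ x * y * x⁻¹ * y⁻¹ = negSL F) : x = 1 ∨ x = negSL F := by
  have key : ∀ y : SL2 F, x * y = y * x ∨ x * y = negSL F * (y * x) := by
    intro y
    rcases h y with h | h
    · left
      have : x * y = (x * y * x⁻¹ * y⁻¹) * (y * x) := by group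
      rw [this, h, one_mul]
    · right
      have : x * y = (x * y * x⁻¹ * y⁻¹) * (y * x) := by group
      rw [this, h]
  have hd := sl_det x
  apply central_of_comm
  · rcases key (uSL 1) with h | h
    · exact h
    · exfalso
      have e1 := congrArg (fun g : SL2 F => g.1 0 0) h
      have e2 := congrArg (fun g : SL2 F => g.1 1 0) h
      simp only [sl_mul_apply, uSL, negSL, mkSL_00, mkSL_01, mkSL_10, mkSL_11] at e1 e2
      have h10 : x.1 1 0 = 0 := by
        have : (2 : F) * x.1 1 0 = 0 := by linear_combination e2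
        rcases mul_eq_zero.1 this with h | h
        · exact absurd h h2
        · exact h
      have h00 : x.1 0 0 = 0 := by
        have : (2 : F) * x.1 0 0 = 0 := by linear_combination e1 - h10
        rcases mul_eq_zero.1 this with h | h
        · exact absurd h h2
        · exact h
      rw [h10, h00] at hd
      simp at hd
  · rcases key (lSL 1) with h | h
    · exact h
    · exfalso
      have e1 := congrArg (fun g : SL2 F => g.1 1 1) h
      have e2 := congrArg (fun g : SL2 F => g.1 0 1) h
      simp only [sl_mul_apply, lSL, negSL, mkSL_00, mkSL_01, mkSL_10, mkSL_11] at e1 e2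
      have h01 : x.1 0 1 = 0 := by
        have : (2 : F) * x.1 0 1 = 0 := by linear_combination e2
        rcases mul_eq_zero.1 this with h | h
        · exact absurd h h2
        · exact h
      have h11 : x.1 1 1 = 0 := by
        have : (2 : F) * x.1 1 1 = 0 := by linear_combination e1 - h01
        rcases mul_eq_zero.1 this with h | h
        · exact absurd h h2
        · exact h
      rw [h01, h11] at hd
      simp at hd

/-- the commutation of two matrices, in coordinates -/
theorem comm_iff (x k : SL2 F) : x * k = k * x ↔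
    (x.1 0 1 * k.1 1 0 = x.1 1 0 * k.1 0 1 ∧
      k.1 0 1 * (x.1 0 0 - x.1 1 1) = x.1 0 1 * (k.1 0 0 - k.1 1 1) ∧
      k.1 1 0 * (x.1 0 0 - x.1 1 1) = x.1 1 0 * (k.1 0 0 - k.1 1 1)) := by
  constructor
  · intro h
    have e1 := congrArg (fun g : SL2 F => g.1 0 0) h
    have e2 := congrArg (fun g : SL2 F => g.1 0 1) h
    have e3 := congrArg (fun g : SL2 F => g.1 1 0) h
    simp only [sl_mul_apply] at e1 e2 e3
    refine ⟨?_, ?_, ?_⟩
    · linear_combination e1
    · linear_combination e2
    · linear_combination -e3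
  · rintro ⟨h1, h2, h3⟩
    apply sl_ext <;> simp only [sl_mul_apply]
    · linear_combination h1
    · linear_combination h2
    · linear_combination -h3
    · linear_combination -h1

/-- the centralizer of the conjugacy class of a non-central element is the centre -/
theorem central_of_comm_class (h2 : (2 : F) ≠ 0) {x k : SL2 F} (hk1 : k ≠ 1) (hk2 : k ≠ negSL F)
    (h : ∀ g : SL2 F, x * (g * k * g⁻¹) = (g * k * g⁻¹) * x) : x = 1 ∨ x = negSL F := by
  have h4 : (4 : F) ≠ 0 := by
    have : (4 : F) = 2 * 2 := by norm_num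
    rw [this]; exact mul_ne_zero h2 h2
  -- coordinates
  obtain ⟨p, hp⟩ : ∃ p, p = x.1 0 0 := ⟨_, rfl⟩
  obtain ⟨q, hq⟩ : ∃ q, q = x.1 0 1 := ⟨_, rfl⟩
  obtain ⟨r, hr⟩ : ∃ r, r = x.1 1 0 := ⟨_, rfl⟩
  obtain ⟨s, hs⟩ : ∃ s, s = x.1 1 1 := ⟨_, rfl⟩
  obtain ⟨a, ha⟩ : ∃ a, a = k.1 0 0 := ⟨_, rfl⟩
  obtain ⟨b, hb⟩ : ∃ b, b = k.1 0 1 := ⟨_, rfl⟩
  obtain ⟨c, hc⟩ : ∃ c, c = k.1 1 0 := ⟨_, rfl⟩
  obtain ⟨d, hd⟩ : ∃ d, d = k.1 1 1 := ⟨_, rfl⟩
  have h0 := (comm_iff x k).1 (by simpa using h 1)
  have hu1 := (comm_iff x _).1 (h (uSL 1))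
  have hu2 := (comm_iff x _).1 (h (uSL (-1)))
  have hl1 := (comm_iff x _).1 (h (lSL 1))
  have hl2 := (comm_iff x _).1 (h (lSL (-1)))
  rw [uSL_inv] at hu1 hu2
  rw [lSL_inv] at hl1 hl2
  simp only [sl_mul_apply, uSL, lSL, mkSL_00, mkSL_01, mkSL_10, mkSL_11, ← hp, ← hq, ← hr, ← hs, ← ha,
    ← hb, ← hc, ← hd] at h0 hu1 hu2 hl1 hl2
  obtain ⟨i0, ii0, iii0⟩ := h0
  obtain ⟨iu1, iiu1, iiiu1⟩ := hu1
  obtain ⟨iu2, iiu2, iiiu2⟩ := hu2
  obtain ⟨il1, iil1, iiil1⟩ := hl1
  obtain ⟨il2, iil2, iiil2⟩ := hl2
  -- consequences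
  have rc : r * c = 0 := by
    have : (2 : F) * (r * c) = 0 := by linear_combination iu1 + iu2 - 2 * i0
    rcases mul_eq_zero.1 this with h | h
    · exact absurd h h2
    · exact h
  have rda : r * (d - a) = 0 := by
    have : (2 : F) * (r * (d - a)) = 0 := by linear_combination iu2 - iu1
    rcases mul_eq_zero.1 this with h | h
    · exact absurd h h2
    · exact h
  have cps : c * (p - s) = 0 := by
    have : (2 : F) * (c * (p - s)) = 0 := by linear_combination 2 * ii0 - iiu1 - iiu2
    rcases mul_eq_zero.1 this with h | h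
    · exact absurd h h2
    · exact h
  have daps : (d - a) * (p - s) = 2 * (q * c) := by
    have : (2 : F) * ((d - a) * (p - s) - 2 * (q * c)) = 0 := by linear_combination iiu1 - iiu2
    rcases mul_eq_zero.1 this with h | h
    · exact absurd h h2
    · exact sub_eq_zero.1 h
  have qb : q * b = 0 := by
    have : (2 : F) * (q * b) = 0 := by linear_combination 2 * i0 - il1 - il2
    rcases mul_eq_zero.1 this with h | h
    · exact absurd h h2
    · exact h
  have qad : q * (a - d) = 0 := by
    have : (2 : F) * (q * (a - d)) = 0 := by linear_combination il1 - il2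
    rcases mul_eq_zero.1 this with h | h
    · exact absurd h h2
    · exact h
  have bps : b * (p - s) = 0 := by
    have : (2 : F) * (b * (p - s)) = 0 := by linear_combination 2 * iii0 - iiil1 - iiil2
    rcases mul_eq_zero.1 this with h | h
    · exact absurd h h2
    · exact h
  have adps : (a - d) * (p - s) = -(2 * (r * b)) := by
    have : (2 : F) * ((a - d) * (p - s) - -(2 * (r * b))) = 0 := by linear_combination iiil1 - iiil2
    rcases mul_eq_zero.1 this with h | h
    · exact absurd h h2
    · exact sub_eq_zero.1 h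
  -- `k` is not central
  have hk : b ≠ 0 ∨ c ≠ 0 ∨ a ≠ d := by
    by_contra hcon
    push Not at hcon
    obtain ⟨hb0, hc0, had⟩ := hcon
    have hdk := sl_det k
    rw [← ha, ← hb, ← hc, ← hd, hb0, hc0, ← had, mul_zero, sub_zero] at hdk
    rcases mul_self_eq_one_iff.1 hdk with h | h
    · apply hk1
      apply sl_ext <;> simp only [one_00, one_01, one_10, one_11, ← ha, ← hb, ← hc, ← hd, hb0, hc0,
        ← had, h]
    · apply hk2
      apply sl_ext <;> simp only [negSL, mkSL_00, mkSL_01, mkSL_10, mkSL_11, ← ha, ← hb, ← hc, ← hd,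
        hb0, hc0, ← had, h]
  have goal : q = 0 ∧ r = 0 ∧ p = s := by
    rcases hk with hb0 | hc0 | had
    · have hq0 : q = 0 := by
        rcases mul_eq_zero.1 qb with h | h
        · exact h
        · exact absurd h hb0
      have hps : p - s = 0 := by
        rcases mul_eq_zero.1 bps with h | h
        · exact absurd h hb0
        · exact h
      have hr0 : r = 0 := by
        rw [hps, mul_zero] at adps
        have : (2 : F) * (r * b) = 0 := by linear_combination adps
        rcases mul_eq_zero.1 this with h | h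
        · exact absurd h h2
        · rcases mul_eq_zero.1 h with h | h
          · exact h
          · exact absurd h hb0
      exact ⟨hq0, hr0, sub_eq_zero.1 hps⟩
    · have hr0 : r = 0 := by
        rcases mul_eq_zero.1 rc with h | h
        · exact h
        · exact absurd h hc0
      have hps : p - s = 0 := by
        rcases mul_eq_zero.1 cps with h | h
        · exact absurd h hc0
        · exact h
      have hq0 : q = 0 := by
        rw [hps, mul_zero] at daps
        have : (2 : F) * (q * c) = 0 := daps.symm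
        rcases mul_eq_zero.1 this with h | h
        · exact absurd h h2
        · rcases mul_eq_zero.1 h with h | h
          · exact h
          · exact absurd h hc0
      exact ⟨hq0, hr0, sub_eq_zero.1 hps⟩
    · have had' : a - d ≠ 0 := sub_ne_zero.2 had
      have hda' : d - a ≠ 0 := sub_ne_zero.2 (Ne.symm had)
      have hr0 : r = 0 := by
        rcases mul_eq_zero.1 rda with h | h
        · exact h
        · exact absurd h hda'
      have hq0 : q = 0 := by
        rcases mul_eq_zero.1 qad with h | h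
        · exact h
        · exact absurd h had'
      have hps : p - s = 0 := by
        rw [hq0, zero_mul, mul_zero] at daps
        rcases mul_eq_zero.1 daps with h | h
        · exact absurd h hda'
        · exact h
      exact ⟨hq0, hr0, sub_eq_zero.1 hps⟩
  obtain ⟨hq0, hr0, hps⟩ := goal
  apply central_of_comm
  · rw [comm_iff]
    simp only [uSL, mkSL_00, mkSL_01, mkSL_10, mkSL_11, ← hp, ← hq, ← hr, ← hs, hq0, hr0, hps]
    refine ⟨by ring, by ring, by ring⟩
  · rw [comm_iff]
    simp only [lSL, mkSL_00, mkSL_01, mkSL_10, mkSL_11, ← hp, ← hq, ← hr, ← hs, hq0, hr0, hps]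
    refine ⟨by ring, by ring, by ring⟩

end Cfsg.Agent.Helper6.SLPair
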