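import Mathlib
import Cfsg.Agent.Helper6.SLPair.SL2Facts
import Cfsg.Agent.Helper6.SLPair.Abstract
import Cfsg.Agent.Helper2.SL2Sylow

set_option autoImplicit false
set_option linter.unusedSectionVars false
set_option linter.unusedVariables false
set_option linter.unusedSimpArgs false

/-!
Two commuting subgroups `SL₂(q₁)`, `SL₂(q₂)` meeting in `⟨j⟩` with product of index two in `C(j)`.
-/

namespace Cfsg.Agent.Helper6.SLPair

local notation "SL2" => Matrix.SpecialLinearGroup (Fin 2)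

variable {G : Type*} [Group G]

theorem mem_zpowers_invol {j x : G} (hj : j * j = 1) : x ∈ Subgroup.zpowers j ↔ x = 1 ∨ x = j := by
  constructor
  · intro h
    obtain ⟨k, rfl⟩ := Subgroup.mem_zpowers_iff.1 h
    rcases Int.emod_two_eq_zero_or_one k with h0 | h1
    · left
      obtain ⟨m, rfl⟩ : ∃ m, k = 2 * m := ⟨k / 2, by omega⟩
      rw [zpow_mul, zpow_two, hj, one_zpow]
    · right
      obtain ⟨m, rfl⟩ : ∃ m, k = 2 * m + 1 := ⟨k / 2, by omega⟩
      rw [zpow_add, zpow_mul, zpow_two, hj, one_zpow, one_mul, zpow_one]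
  · rintro (rfl | rfl)
    · exact Subgroup.one_mem _
    · exact Subgroup.mem_zpowers _

theorem two_ne_zero_of_odd_card {F : Type*} [Field F] [Fintype F] (hq : Odd (Fintype.card F)) :
    (2 : F) ≠ 0 := by
  intro h
  have h2 : ringChar F = 2 := by
    have hd : ringChar F ∣ 2 := by
      apply ringChar.dvd
      exact_mod_cast h
    rcases (Nat.dvd_prime Nat.prime_two).1 hd with h1 | h2
    · exact absurd h1 (CharP.ringChar_ne_one)
    · exact h2
  have h3 := FiniteField.even_card_iff_char_two.1 h2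
  have h4 := Nat.odd_iff.1 hq
  omega

/-- a subgroup isomorphic to `SL₂(F)`, with its central involution, is a factor -/
theorem factor_of_equiv {F : Type*} [Field F] [Fintype F] (hq : Odd (Fintype.card F))
    (L : Subgroup G) (e : ↥L ≃* SL2 F) {j : G} (hj2 : j * j = 1) (hj1 : j ≠ 1) (hjL : j ∈ L)
    (hjc : ∀ y ∈ L, j * y = y * j) : Factor L (Subgroup.zpowers j) := by
  have h2 := two_ne_zero_of_odd_card hq
  have ej : e ⟨j, hjL⟩ = negSL F := by
    apply central_invol
    · intro y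
      obtain ⟨y0, rfl⟩ := e.surjective y
      rw [← map_mul, ← map_mul]
      congr 1
      exact Subtype.ext (hjc y0.1 y0.2)
    · intro h
      have : (⟨j, hjL⟩ : ↥L) = 1 := e.injective (by rw [h, map_one])
      exact hj1 (congrArg Subtype.val this)
  have key : ∀ x : ↥L, x.1 ∈ Subgroup.zpowers j ↔ (e x = 1 ∨ e x = negSL F) := by
    intro x
    rw [mem_zpowers_invol hj2]
    constructor
    · rintro (h | h)
      · left
        have : x = 1 := Subtype.ext h
        rw [this, map_one]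
      · right
        have : x = ⟨j, hjL⟩ := Subtype.ext h
        rw [this, ej]
    · rintro (h | h)
      · left
        have : x = 1 := e.injective (by rw [h, map_one])
        exact congrArg Subtype.val this
      · right
        have : x = ⟨j, hjL⟩ := e.injective (by rw [h, ej])
        exact congrArg Subtype.val this
  refine ⟨?_, ?_, ?_, ?_⟩
  · rw [Subgroup.zpowers_le]; exact hjL
  · intro hle
    have h1 := hle (e.symm (uSL 1)).2
    rw [key, e.apply_symm_apply] at h1
    rcases h1 with h | h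
    · have := congrArg (fun g : SL2 F => g.1 0 1) h
      simp only [uSL, mkSL_01, one_01] at this
      exact one_ne_zero this
    · have := congrArg (fun g : SL2 F => g.1 0 1) h
      simp only [uSL, negSL, mkSL_01] at this
      exact one_ne_zero this
  · intro x hx hcomm
    have := (key ⟨x, hx⟩).2 ?_
    · exact this
    apply central_of_comm_mod h2
    intro y'
    obtain ⟨y, rfl⟩ := e.surjective y'
    have h1 := (key (⟨x, hx⟩ * y * ⟨x, hx⟩⁻¹ * y⁻¹)).1 (hcomm y.1 y.2)
    simpa using h1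
  · intro K hKL hKn hKZ x hx hcent
    have := (key ⟨x, hx⟩).2 ?_
    · exact this
    obtain ⟨k, hkK, hkZ⟩ := SetLike.not_le_iff_exists.1 hKZ
    have hk' := (key ⟨k, hKL hkK⟩).not.1 hkZ
    push Not at hk'
    apply central_of_comm_class h2 hk'.1 hk'.2
    intro g'
    obtain ⟨g, rfl⟩ := e.surjective g'
    have hmem : g.1 * k * g.1⁻¹ ∈ K := hKn g.1 g.2 k hkK
    have h1 := hcent _ hmem
    have h3 : (⟨x, hx⟩ : ↥L) * (g * ⟨k, hKL hkK⟩ * g⁻¹) = (g * ⟨k, hKL hkK⟩ * g⁻¹) * ⟨x, hx⟩ :=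
      Subtype.ext h1
    have h4 := congrArg e h3
    simpa using h4

theorem card_sl2_inj {a b : ℕ} (ha : 1 ≤ a) (hb : 1 ≤ b) (h : a * (a ^ 2 - 1) = b * (b ^ 2 - 1)) :
    a = b := by
  have mono : ∀ {x y : ℕ}, 1 ≤ x → x < y → x * (x ^ 2 - 1) < y * (y ^ 2 - 1) := by
    intro x y hx hxy
    have h1 : x ^ 2 - 1 ≤ y ^ 2 - 1 := Nat.sub_le_sub_right (Nat.pow_le_pow_left hxy.le 2) 1
    have h2 : 0 < y ^ 2 - 1 := by
      have : 2 ^ 2 ≤ y ^ 2 := Nat.pow_le_pow_left (by omega) 2
      omega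
    calc x * (x ^ 2 - 1) ≤ x * (y ^ 2 - 1) := Nat.mul_le_mul_left _ h1
      _ < y * (y ^ 2 - 1) := Nat.mul_lt_mul_of_pos_right hxy h2
  rcases lt_trichotomy a b with h1 | h1 | h1
  · exact absurd h (mono ha h1).ne
  · exact h1
  · exact absurd h.symm (mono hb h1).ne

/-- the main statement -/
theorem main [Finite G]
    {F₁ : Type*} [Field F₁] [Fintype F₁] {F₂ : Type*} [Field F₂] [Fintype F₂]
    (hF₁ : Odd (Fintype.card F₁)) (hF₂ : Odd (Fintype.card F₂)) (L₁ L₂ : Subgroup G)
    (e₁ : ↥L₁ ≃* SL2 F₁) (e₂ : ↥L₂ ≃* SL2 F₂)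
    (hc : ∀ x ∈ L₁, ∀ y ∈ L₂, x * y = y * x) (j : G) (hj : orderOf j = 2)
    (hm : L₁ ⊓ L₂ = Subgroup.zpowers j)
    (hle : L₁ ⊔ L₂ ≤ Subgroup.centralizer ({j} : Set G))
    (hi : (L₁ ⊔ L₂).relIndex (Subgroup.centralizer ({j} : Set G)) = 2) (n : G)
    (hn : n ∈ Subgroup.centralizer ({j} : Set G)) (hn' : n ∉ L₁ ⊔ L₂) :
    (L₁.map (MulAut.conj n).toMonoidHom = L₁ ∧ L₂.map (MulAut.conj n).toMonoidHom = L₂) ∨
      (L₁.map (MulAut.conj n).toMonoidHom = L₂ ∧ Fintype.card F₁ = Fintype.card F₂ ∧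
        ∃ n' ∈ Subgroup.centralizer ({j} : Set G), n' ∉ L₁ ⊔ L₂ ∧
          L₁.map (MulAut.conj n').toMonoidHom = L₂ ∧ n' ^ 2 ∈ Subgroup.zpowers j) := by
  have hj2 : j * j = 1 := by
    have := pow_orderOf_eq_one j
    rwa [hj, pow_two] at this
  have hj1 : j ≠ 1 := by
    intro h
    rw [h, orderOf_one] at hj
    exact absurd hj (by norm_num)
  have hjm : j ∈ L₁ ⊓ L₂ := by rw [hm]; exact Subgroup.mem_zpowers j
  have f₁ : Factor L₁ (Subgroup.zpowers j) :=
    factor_of_equiv hF₁ L₁ e₁ hj2 hj1 hjm.1 (fun y hy => (hc y hy j hjm.2).symm)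
  have f₂ : Factor L₂ (Subgroup.zpowers j) :=
    factor_of_equiv hF₂ L₂ e₂ hj2 hj1 hjm.2 (fun y hy => hc j hjm.1 y hy)
  -- the centralizer and its normal subgroup of index two
  set C := Subgroup.centralizer ({j} : Set G) with hC
  set M := L₁ ⊔ L₂ with hM
  have hidx : (M.subgroupOf C).index = 2 := hi
  have hnorm : (M.subgroupOf C).Normal := Subgroup.normal_of_index_eq_two hidx
  have conjM : ∀ c ∈ C, ∀ m ∈ M, c * m * c⁻¹ ∈ M := by
    intro c hc' m hm'
    have := hnorm.conj_mem ⟨m, hle hm'⟩ (Subgroup.mem_subgroupOf.2 hm') ⟨c, hc'⟩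
    exact Subgroup.mem_subgroupOf.1 this
  have commZ : ∀ z ∈ Subgroup.zpowers j, ∀ c ∈ C, c * z = z * c := by
    intro z hz c hc'
    rw [Subgroup.mem_centralizer_iff] at hc'
    have h1 : Commute j c := hc' j rfl
    obtain ⟨k, rfl⟩ := Subgroup.mem_zpowers_iff.1 hz
    exact ((h1.zpow_left k).eq).symm
  have hnZ : ∀ c ∈ C, ∀ z ∈ Subgroup.zpowers j, c * z * c⁻¹ = z := by
    intro c hc' z hz
    rw [commZ z hz c hc']; group
  have hninv : n⁻¹ ∈ C := Subgroup.inv_mem _ hn
  rcases fix_or_swap f₁ f₂ hc n (conjM n hn)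
    (fun m hm' => by have := conjM n⁻¹ hninv m hm'; rwa [inv_inv] at this) (hnZ n hn) with h | h
  · left; exact h
  · right
    obtain ⟨hs1, hs2⟩ := h
    refine ⟨hs1, ?_, ?_⟩
    · -- the fields have the same order
      have c1 : Nat.card L₁ = Nat.card L₂ := by
        rw [← card_map_conj L₁ n, hs1]
      rw [Nat.card_congr e₁.toEquiv, Nat.card_congr e₂.toEquiv,
        Cfsg.Agent.Helper2.SL2.card_SL2, Cfsg.Agent.Helper2.SL2.card_SL2] at c1
      exact card_sl2_inj Fintype.card_pos Fintype.card_pos c1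
    · -- the element `n'`
      have hnn : n * n ∈ M := by
        have := Subgroup.mul_self_mem_of_index_two hidx ⟨n, hn⟩
        exact Subgroup.mem_subgroupOf.1 this
      obtain ⟨a, ha, b, hb, hab⟩ := (mem_sup_iff hc).1 hnn
      have haC : a ∈ C := hle (Subgroup.mem_sup_left ha)
      have hα : n * a * n⁻¹ ∈ L₂ := by
        rw [← hs1]; exact mem_map_conj.2 ⟨a, ha, rfl⟩
      have hβ : n * b * n⁻¹ ∈ L₁ := by
        rw [← hs2]; exact mem_map_conj.2 ⟨b, hb, rfl⟩
      set α := n * a * n⁻¹ with hαdef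
      set β := n * b * n⁻¹ with hβdef
      have e1 : α * β = a * b := by
        calc α * β = n * (a * b) * n⁻¹ := by rw [hαdef, hβdef]; group
          _ = n * (n * n) * n⁻¹ := by rw [hab]
          _ = n * n := by group
          _ = a * b := hab
      have e2 : β * α = a * b := by rw [hc β hβ α hα, e1]
      -- `z = a⁻¹ β = b α⁻¹`
      have e3 : a⁻¹ * β = b * α⁻¹ := by
        calc a⁻¹ * β = a⁻¹ * (β * α) * α⁻¹ := by group
          _ = a⁻¹ * (a * b) * α⁻¹ := by rw [e2]
          _ = b * α⁻¹ := by group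
      have hz : b * α⁻¹ ∈ Subgroup.zpowers j := by
        rw [← hm]
        refine ⟨?_, Subgroup.mul_mem _ hb (Subgroup.inv_mem _ hα)⟩
        rw [← e3]
        exact Subgroup.mul_mem _ (Subgroup.inv_mem _ ha) hβ
      refine ⟨n * a⁻¹, Subgroup.mul_mem _ hn (Subgroup.inv_mem _ haC), ?_, ?_, ?_⟩
      · intro h
        apply hn'
        have : n = (n * a⁻¹) * a := by group
        rw [this]
        exact Subgroup.mul_mem _ h (Subgroup.mem_sup_left ha)
      · ext x
        rw [mem_map_conj, ← hs1, mem_map_conj]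
        constructor
        · rintro ⟨y, hy, rfl⟩
          exact ⟨a⁻¹ * y * a, Subgroup.mul_mem _ (Subgroup.mul_mem _ (Subgroup.inv_mem _ ha) hy) ha,
            by group⟩
        · rintro ⟨y, hy, rfl⟩
          exact ⟨a * y * a⁻¹, Subgroup.mul_mem _ (Subgroup.mul_mem _ ha hy) (Subgroup.inv_mem _ ha),
            by group⟩
      · have hαC : α⁻¹ ∈ C := hle (Subgroup.mem_sup_right (Subgroup.inv_mem _ hα))
        have e4 : (n * a⁻¹) ^ 2 = α⁻¹ * b := by
          rw [pow_two]
          calc (n * a⁻¹) * (n * a⁻¹) = (n * a⁻¹ * n⁻¹) * (n * n) * a⁻¹ := by group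
            _ = (n * a⁻¹ * n⁻¹) * (a * b) * a⁻¹ := by rw [hab]
            _ = (n * a⁻¹ * n⁻¹) * (a * (b * a⁻¹)) := by group
            _ = (n * a⁻¹ * n⁻¹) * (a * (a⁻¹ * b)) := by rw [← inv_comm hc ha hb]
            _ = α⁻¹ * b := by rw [hαdef]; group
        have e5 : α⁻¹ * b = b * α⁻¹ := by
          have h1 := commZ _ hz _ hαC
          calc α⁻¹ * b = α⁻¹ * (b * α⁻¹) * α := by group
            _ = (b * α⁻¹) * α⁻¹ * α := by rw [h1]
            _ = b * α⁻¹ := by group
        rw [e4, e5]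
        exact hz

end Cfsg.Agent.Helper6.SLPair
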